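import Groth.Agent.EtKummerLib.PieceGm

/-!
# `R^1 i_* G_m = 0` and injectivity of `H^n(X, i_* G_m) → H^n(point, G_m)`, `n ≤ 2`
-/

set_option autoImplicit false
set_option linter.unusedSectionVars false
set_option linter.style.haveILetI false
set_option backward.isDefEq.respectTransparency false
set_option backward.isDefEq.respectTransparency.types false
set_option synthInstance.maxHeartbeats 400000
set_option maxHeartbeats 1000000

universe u

open CategoryTheory CategoryTheory.Limits CategoryTheory.Abelian AlgebraicGeometry Opposite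
open Groth.Agent.EtShLib EtSliceLib EtTransferLib

namespace EtKummerLib

noncomputable section

variable {k : Type u} [Field k] {X : Scheme.{u}} (f : Spec (CommRingCat.of k) ⟶ X)

theorem epi_push_map [QuasiCompact f] [QuasiSeparated f]
    {S : ShortComplex (EtCoh.Ab (Spec (CommRingCat.of k)))} (hS : S.ShortExact)
    (e : S.X₁ = EtCoh.Gm (Spec (CommRingCat.of k))) : Epi ((EtCoh.push f).map S.g) := by
  refine (epi_iff_stalks (A := AddCommGrpCat.{u + 1}) _).2 fun Ω _ _ ξ => ?_
  refine (AddCommGrpCat.epi_iff_surjective _).2 fun p => ?_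
  obtain ⟨U, u, z, rfl⟩ := exists_germ (A := AddCommGrpCat.{u + 1}) ξ p
  obtain ⟨V, g, v, hV, hv⟩ := exists_affine_below' ξ U u
  haveI : CompactSpace ↥((EtCoh.bc f).obj V).left := (bc_mem_qcqsObj f (V := V)).1
  obtain ⟨b, hb⟩ := exists_lift_section ((EtCoh.bc f).obj V) hS e (((EtCoh.push f).obj S.X₃).obj.map g.op z)
  refine ⟨germ (A := AddCommGrpCat.{u + 1}) ξ ((EtCoh.push f).obj S.X₂) V v b, ?_⟩
  rw [germ_natural_apply, ← hv, ← germ_res_apply]
  exact congrArg (germ (A := AddCommGrpCat.{u + 1}) ξ ((EtCoh.push f).obj S.X₃) V v) hb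

variable [PreservesFiniteLimits (EtCoh.pull f)]

theorem hofPush_eq (F : EtCoh.Ab (Spec (CommRingCat.of k))) (p : ℕ) (x : EtCoh.H X ((EtCoh.push f).obj F) p) :
    EtLim.HofPush f F p x = (Ext.mk₀ (EtCore.pullConst f ℤ).inv).comp
      (Groth.Agent.S14451.extAdj' (EtCoh.pullPushAdj f) (EtCoh.const X ℤ) F p x) (zero_add p) := by
  exact Ext.comp_assoc _ _ _ (zero_add p) (add_zero p) (by omega)

theorem extAdj'_injective_one (F : EtCoh.Ab (Spec (CommRingCat.of k))) :
    Function.Injective (Groth.Agent.S14451.extAdj'.{u + 1} (EtCoh.pullPushAdj f) (EtCoh.const X ℤ) F 1) := by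
  haveI : PreservesLimitsOfSize.{0, 0} (EtCoh.push f) := (EtCoh.pullPushAdj f).rightAdjoint_preservesLimits
  haveI : PreservesFiniteLimits (EtCoh.push f) := PreservesLimitsOfSize.preservesFiniteLimits _
  haveI : PreservesFiniteColimits (EtCoh.pull f) :=
    haveI : PreservesColimitsOfSize.{0, 0} (EtCoh.pull f) := (EtCoh.pullPushAdj f).leftAdjoint_preservesColimits
    PreservesColimitsOfSize.preservesFiniteColimits _
  haveI : (EtCoh.push f).Additive := { }
  haveI : (EtCoh.pull f).PreservesMonomorphisms := inferInstance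
  refine (injective_iff_map_eq_zero _).2 fun x hx => ?_
  let ip := (EnoughInjectives.presentation F).some
  let S := ShortComplex.mk ip.f (cokernel.π ip.f) (cokernel.condition _)
  have hS : S.ShortExact := { exact := ShortComplex.exact_of_g_is_cokernel _ (cokernelIsCokernel _) }
  haveI : Injective S.X₂ := ip.injective
  let G := EtCoh.push f
  let adj := EtCoh.pullPushAdj f
  let S₁ := ShortComplex.mk (G.map S.f) (cokernel.π (G.map S.f)) (cokernel.condition _)
  haveI : Mono (G.map S.f) := G.map_mono _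
  have h₁ : S₁.ShortExact := { exact := ShortComplex.exact_of_g_is_cokernel _ (cokernelIsCokernel _) }
  haveI : Injective S₁.X₂ := Injective.injective_of_adjoint adj S.X₂
  let j : S₁.X₃ ⟶ G.obj S.X₃ := cokernel.desc (G.map S.f) (G.map S.g) (by rw [← G.map_comp, S.zero, G.map_zero])
  haveI : Mono j := (S.map G).exact_iff_mono_cokernel_desc.1 (hS.exact.map_of_mono_of_preservesKernel G inferInstance inferInstance)
  obtain ⟨d, rfl⟩ := Ext.covariant_sequence_exact₁ _ h₁ (n₁ := 0 + 1) x (Ext.eq_zero_of_injective _) (n₀ := 0) rfl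
  obtain ⟨d, rfl⟩ := (Ext.mk₀_bijective _ _).2 d
  let ψ : S₁.map (EtCoh.pull f) ⟶ S :=
    ⟨adj.counit.app S.X₁, adj.counit.app S.X₂, (adj.homEquiv _ _).symm j,
      (adj.counit.naturality S.f).symm, (by
        show adj.counit.app S.X₂ ≫ S.g = (EtCoh.pull f).map (cokernel.π (G.map S.f)) ≫ (adj.homEquiv _ _).symm j
        rw [← Adjunction.homEquiv_naturality_left_symm, cokernel.π_desc, Adjunction.homEquiv_counit]
        exact (adj.counit.naturality S.g).symm)⟩
  have hnat := (h₁.map_of_exact (EtCoh.pull f)).extClass_naturality hS ψ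
  have h0 : (Ext.mk₀ ((EtCoh.pull f).map d ≫ (adj.homEquiv _ _).symm j)).comp hS.extClass (zero_add 1) = 0 := by
    refine Eq.trans ?_ hx
    show _ = (((Ext.mk₀ d).comp h₁.extClass _).mapExactFunctor (EtCoh.pull f)).comp (Ext.mk₀ (adj.counit.app S.X₁)) (add_zero 1)
    rw [Ext.mapExactFunctor_comp, Ext.mapExactFunctor_mk₀, Ext.comp_assoc_of_third_deg_zero, ← Ext.mk₀_comp_mk₀,
      Ext.comp_assoc_of_second_deg_zero]
    erw [Ext.mapExactFunctor_extClass]
    exact congrArg (fun z => (Ext.mk₀ ((EtCoh.pull f).map d)).comp z (zero_add 1)) hnat.symm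
  obtain ⟨w, hw⟩ := Ext.covariant_sequence_exact₃ _ hS _ (n₁ := 1) (zero_add 1) h0
  obtain ⟨e, rfl⟩ := (Ext.mk₀_bijective _ S.X₂).2 w
  rw [Ext.mk₀_comp_mk₀] at hw
  have he : e ≫ S.g = (EtCoh.pull f).map d ≫ (adj.homEquiv _ _).symm j := (Ext.mk₀_bijective _ _).1 hw
  rw [← Adjunction.homEquiv_naturality_left_symm] at he
  have hd : d = adj.homEquiv _ _ e ≫ S₁.g := by
    rw [← cancel_mono j, Category.assoc]
    show d ≫ j = adj.homEquiv _ _ e ≫ cokernel.π (G.map S.f) ≫ cokernel.desc _ _ _
    rw [cokernel.π_desc, ← Adjunction.homEquiv_naturality_right, he, Equiv.apply_symm_apply]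
  rw [hd, ← Ext.mk₀_comp_mk₀, Ext.comp_assoc_of_second_deg_zero, h₁.comp_extClass, Ext.comp_zero]

theorem hofPush_injective_two [QuasiCompact f] [QuasiSeparated f] :
    Function.Injective (EtLim.HofPush f (EtCoh.Gm (Spec (CommRingCat.of k))) 2) := by
  haveI : PreservesLimitsOfSize.{0, 0} (EtCoh.push f) := (EtCoh.pullPushAdj f).rightAdjoint_preservesLimits
  haveI : PreservesFiniteLimits (EtCoh.push f) := PreservesLimitsOfSize.preservesFiniteLimits _
  haveI : PreservesFiniteColimits (EtCoh.pull f) :=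
    haveI : PreservesColimitsOfSize.{0, 0} (EtCoh.pull f) := (EtCoh.pullPushAdj f).leftAdjoint_preservesColimits
    PreservesColimitsOfSize.preservesFiniteColimits _
  haveI : (EtCoh.push f).Additive := { }
  haveI : (EtCoh.pull f).PreservesMonomorphisms := inferInstance
  refine (injective_iff_map_eq_zero _).2 fun x hx => ?_
  let adj := EtCoh.pullPushAdj f
  let F := EtCoh.Gm (Spec (CommRingCat.of k))
  have hx' : Groth.Agent.S14451.extAdj' adj (EtCoh.const X ℤ) F 2 x = 0 := by
    rw [hofPush_eq] at hx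
    have h' := congrArg (fun z => (Ext.mk₀ (EtCore.pullConst f ℤ).hom).comp z (zero_add 2)) hx
    rwa [Ext.mk₀_comp_mk₀_assoc, Iso.hom_inv_id, Ext.mk₀_id_comp, Ext.comp_zero] at h'
  let ip := (EnoughInjectives.presentation F).some
  let S := ShortComplex.mk ip.f (cokernel.π ip.f) (cokernel.condition _)
  have hS : S.ShortExact := { exact := ShortComplex.exact_of_g_is_cokernel _ (cokernelIsCokernel _) }
  haveI : Injective S.X₂ := ip.injective
  haveI : Injective ((EtCoh.push f).obj S.X₂) := Injective.injective_of_adjoint adj S.X₂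
  haveI : Epi ((EtCoh.push f).map S.g) := epi_push_map f hS rfl
  have hG : (S.map (EtCoh.push f)).ShortExact := Groth.Agent.RDerLib.map_shortExact hS inferInstance
  haveI : Injective (S.map (EtCoh.push f)).X₂ := ‹Injective ((EtCoh.push f).obj S.X₂)›
  obtain ⟨c, rfl⟩ := Ext.covariant_sequence_exact₁ _ hG (n₁ := 1 + 1) x (Ext.eq_zero_of_injective _) (n₀ := 1) rfl
  change Ext.{u + 1} _ ((EtCoh.push f).obj S.X₃) 1 at c
  have h1 : (Groth.Agent.S14451.extAdj' adj (EtCoh.const X ℤ) S.X₃ 1 c).comp hS.extClass rfl = 0 := by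
    rw [Groth.Agent.S14451.extAdj'_delta adj (EtCoh.const X ℤ) hS hG c]
    exact hx'
  obtain ⟨w, hw⟩ := Ext.covariant_sequence_exact₃ _ hS _ rfl h1
  rw [show w = 0 from Ext.eq_zero_of_injective _, Ext.zero_comp] at hw
  have hc : c = 0 := extAdj'_injective_one f S.X₃ (hw.symm.trans (map_zero _).symm)
  rw [hc]
  exact Ext.zero_comp _ _ hG.extClass _ _

end

end EtKummerLib
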