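import Groth.Agent.EtShLib.Kummer
import Groth.Agent.EtTransferLib.Basic
import Groth.Prelude.Def_Dix
import Mathlib.AlgebraicGeometry.ResidueField

/-!
# Kummer sequences and torsion in cohomology of `G_m`
-/

set_option autoImplicit false
set_option linter.unusedSectionVars false
set_option backward.isDefEq.respectTransparency false
set_option backward.isDefEq.respectTransparency.types false
set_option maxHeartbeats 1000000

universe u

open CategoryTheory CategoryTheory.Limits CategoryTheory.Abelian AlgebraicGeometry Opposite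

namespace EtKummerLib

noncomputable section

theorem isUnit_of_invertibleOn {X : Scheme.{u}} {n : ℕ} (h : Dix.InvertibleOn X n) : IsUnit (n : Γ(X, ⊤)) := by
  refine X.toRingedSpace.isUnit_of_isUnit_germ ⊤ (n : Γ(X, ⊤)) fun x hx => ?_
  rw [map_natCast]
  have hx' : IsUnit ((IsLocalRing.residue (X.presheaf.stalk x)) (n : X.presheaf.stalk x)) := by
    rw [map_natCast]
    exact IsUnit.mk0 (G₀ := X.residueField x) _ (h x)
  exact (isUnit_map_iff _ _).1 hx'

/-- The Kummer sequence. -/
abbrev kummer (X : Scheme.{u}) (n : ℕ) : ShortComplex (EtCoh.Ab X) :=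
  ShortComplex.mk (EtCoh.muι X n) (EtCoh.powMap X n) (kernel.condition _)

theorem kummer_shortExact {X : Scheme.{u}} {n : ℕ} (h : Dix.InvertibleOn X n) : (kummer X n).ShortExact :=
  { exact := ShortComplex.exact_of_f_is_kernel _ (kernelIsKernel (EtCoh.powMap X n))
    mono_f := inferInstanceAs (Mono (kernel.ι (EtCoh.powMap X n)))
    epi_g := Groth.Agent.EtShLib.epi_powMap X n (isUnit_of_invertibleOn h) }

theorem nsmul_id_kernel {X : Scheme.{u}} (G : EtCoh.Ab X) (n : ℕ) : n • 𝟙 (kernel (n • 𝟙 G)) = 0 := by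
  rw [← cancel_mono (kernel.ι (n • 𝟙 G)), zero_comp, Preadditive.nsmul_comp, Category.id_comp]
  have h := kernel.condition (n • 𝟙 G)
  rwa [Preadditive.comp_nsmul, Category.comp_id] at h

theorem nsmul_id_cokernel {X : Scheme.{u}} (G : EtCoh.Ab X) (n : ℕ) : n • 𝟙 (cokernel (n • 𝟙 G)) = 0 := by
  rw [← cancel_epi (cokernel.π (n • 𝟙 G)), comp_zero, Preadditive.comp_nsmul, Category.comp_id]
  have h := cokernel.condition (n • 𝟙 G)
  rwa [Preadditive.nsmul_comp, Category.id_comp] at h

theorem isPrimaryTorsion_of_nsmul_id {X : Scheme.{u}} {G : EtCoh.Ab X} (l k : ℕ) (h : l ^ k • 𝟙 G = 0) :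
    Dix.IsPrimaryTorsion l G := by
  intro U s x
  refine ⟨U, 𝟙 U, ⟨x, rfl⟩, k, ?_⟩
  have h1 : l ^ k • s = 0 := congrArg (fun t : G ⟶ G => t.hom.app (op U) s) h
  rw [← map_nsmul, h1, map_zero]

/-- A class killed by `n` vanishes once the kernel and cokernel of `n` have no cohomology around it. -/
theorem eq_zero_of_nsmul {X : Scheme.{u}} {F M : EtCoh.Ab X} (n : ℕ) {q : ℕ} (x : Ext.{u + 1} M F (q + 1))
    (hx : n • x = 0) (h1 : Subsingleton (Ext.{u + 1} M (kernel (n • 𝟙 F)) (q + 1)))
    (h2 : Subsingleton (Ext.{u + 1} M (cokernel (n • 𝟙 F)) q)) : x = 0 := by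
  let g : F ⟶ F := n • 𝟙 F
  let e : F ⟶ Abelian.image g := Abelian.factorThruImage g
  let i : Abelian.image g ⟶ F := Abelian.image.ι g
  have hei : e ≫ i = g := Abelian.image.fac g
  let S₁ : ShortComplex (EtCoh.Ab X) := ShortComplex.mk (kernel.ι g) e (by
    rw [← cancel_mono i, Category.assoc, hei, kernel.condition, zero_comp])
  let S₂ : ShortComplex (EtCoh.Ab X) := ShortComplex.mk i (cokernel.π g) (kernel.condition _)
  have h₁ : S₁.ShortExact :=
    { exact := ShortComplex.exact_of_f_is_kernel S₁ (KernelFork.IsLimit.ofι _ _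
        (fun a ha => kernel.lift g a (by rw [← hei, ← Category.assoc, ha, zero_comp]))
        (fun a ha => kernel.lift_ι _ _ _)
        (fun a ha b hb => by rw [← cancel_mono (kernel.ι g), kernel.lift_ι]; exact hb))
      mono_f := inferInstanceAs (Mono (kernel.ι g))
      epi_g := inferInstanceAs (Epi (Abelian.factorThruImage g)) }
  have h₂ : S₂.ShortExact :=
    { exact := ShortComplex.exact_of_f_is_kernel S₂ (kernelIsKernel (cokernel.π g))
      mono_f := inferInstanceAs (Mono (kernel.ι (cokernel.π g)))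
      epi_g := inferInstanceAs (Epi (cokernel.π g)) }
  let y := x.comp (Ext.mk₀ S₁.g) (add_zero (q + 1))
  have hy : y.comp (Ext.mk₀ S₂.f) (add_zero (q + 1)) = 0 := by
    show (x.comp (Ext.mk₀ e) (add_zero (q + 1))).comp (Ext.mk₀ i) (add_zero (q + 1)) = 0
    rw [Ext.comp_assoc_of_third_deg_zero, Ext.mk₀_comp_mk₀, hei]
    exact (EtTransferLib.comp_mk₀_nsmul x n).trans hx
  obtain ⟨c, hc⟩ := Ext.covariant_sequence_exact₁ _ h₂ y hy rfl
  haveI : Subsingleton (Ext.{u + 1} M S₂.X₃ q) := h2
  rw [Subsingleton.elim c 0, Ext.zero_comp] at hc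
  obtain ⟨z, rfl⟩ := Ext.covariant_sequence_exact₂ _ h₁ x hc.symm
  haveI : Subsingleton (Ext.{u + 1} M S₁.X₁ (q + 1)) := h1
  rw [Subsingleton.elim z 0, Ext.zero_comp]

end

end EtKummerLib
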