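import Groth.Agent.EtTransferLib.Field
import Groth.Agent.EtSliceLib.MV
import Groth.Prelude.Def_EtGm
import Mathlib.FieldTheory.Normal.Closure
import Mathlib.FieldTheory.Galois.Basic
import Mathlib.RepresentationTheory.Homological.GroupCohomology.Hilbert90

/-!
# Hilbert 90 on the etale site of a field
-/

set_option autoImplicit false
set_option linter.unusedSectionVars false
set_option linter.style.haveILetI false
set_option backward.isDefEq.respectTransparency false
set_option backward.isDefEq.respectTransparency.types false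
set_option synthInstance.maxHeartbeats 400000
set_option maxHeartbeats 1000000

universe u

open CategoryTheory CategoryTheory.Limits CategoryTheory.Abelian AlgebraicGeometry Opposite
open Groth.Agent.EtShLib EtSliceLib EtTransferLib

namespace EtKummerLib

noncomputable section

variable (k M : Type u) [Field k] [Field M] [Algebra k M] [FiniteDimensional k M] [Algebra.IsSeparable k M]

/-- An embedding into a field, as a point. -/
def autMap (σ : M ≃ₐ[k] M) : fieldEt k M ⟶ fieldEt k M :=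
  MorphismProperty.Over.homMk (Spec.map (CommRingCat.ofHom (σ : M →ₐ[k] M).toRingHom)) (by
    show Spec.map _ ≫ Spec.map (CommRingCat.ofHom (algebraMap k M)) = Spec.map (CommRingCat.ofHom (algebraMap k M))
    rw [← Spec.map_comp, ← CommRingCat.ofHom_comp]
    exact congrArg (fun c => Spec.map (CommRingCat.ofHom c)) (σ : M →ₐ[k] M).comp_algebraMap)

theorem autMap_mul (σ τ : M ≃ₐ[k] M) : autMap k M σ ≫ autMap k M τ = autMap k M (σ * τ) := by
  refine MorphismProperty.Over.Hom.ext ?_
  show Spec.map _ ≫ Spec.map _ = Spec.map _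
  rw [← Spec.map_comp]
  rfl

/-- Units as sections of `G_m`. -/
def gmSec (x : Mˣ) : ToType ((EtCoh.Gm (Spec (CommRingCat.of k))).obj.obj (op (fieldEt k M))) :=
  ULift.up (Additive.ofMul (α := Γ(Spec (CommRingCat.of M), ⊤)ˣ)
    (Units.map (Scheme.ΓSpecIso (CommRingCat.of M)).inv.hom.toMonoidHom x))

theorem gmSec_mul (x y : Mˣ) : gmSec k M (x * y) = gmSec k M x + gmSec k M y :=
  congrArg (fun t => ULift.up (Additive.ofMul t)) (map_mul _ x y)

theorem gmSec_bijective : Function.Bijective (gmSec k M) := by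
  refine ULift.up_bijective.comp (Additive.ofMul.bijective.comp ?_)
  exact (Units.mapEquiv (Scheme.ΓSpecIso (CommRingCat.of M)).symm.commRingCatIsoToRingEquiv.toMulEquiv).bijective

theorem map_gmSec (σ : M ≃ₐ[k] M) (x : Mˣ) :
    (EtCoh.Gm (Spec (CommRingCat.of k))).obj.map (autMap k M σ).op (gmSec k M x) = gmSec k M (σ • x) := by
  refine congrArg (fun t => ULift.up (Additive.ofMul t)) (Units.ext ?_)
  exact (congrArg (fun t : CommRingCat.of M ⟶ _ => t.hom (x : M))
    (Scheme.ΓSpecIso_inv_naturality (CommRingCat.ofHom (σ : M →ₐ[k] M).toRingHom))).symm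

theorem exists_aut [Normal k M] {Ω : Type u} [Field Ω] [IsSepClosed Ω]
    {ξ : Spec (CommRingCat.of Ω) ⟶ Spec (CommRingCat.of k)} (z₁ z₂ : Fib ξ (fieldEt k M)) :
    ∃ σ : M ≃ₐ[k] M, z₁.map (autMap k M σ) = z₂ := by
  let ι₁ : M →+* Ω := (Spec.preimage z₁.hom).hom
  let ι₂ : M →+* Ω := (Spec.preimage z₂.hom).hom
  have h : ∀ z : Fib ξ (fieldEt k M), (Spec.preimage z.hom).hom.comp (algebraMap k M) = (Spec.preimage ξ).hom := by
    intro z
    have e : CommRingCat.ofHom (algebraMap k M) ≫ Spec.preimage z.hom = Spec.preimage ξ := by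
      apply Spec.map_injective
      rw [Spec.map_comp, Spec.map_preimage, Spec.map_preimage]
      exact z.w
    exact congrArg (fun c => c.hom) e
  letI : Algebra k Ω := (Spec.preimage ξ).hom.toAlgebra
  letI : Algebra M Ω := ι₁.toAlgebra
  haveI : IsScalarTower k M Ω := IsScalarTower.of_algebraMap_eq' (h z₁).symm
  let ψ : M →ₐ[k] Ω := { ι₂ with commutes' := fun x => congrArg (fun c : k →+* Ω => c x) (h z₂) }
  obtain ⟨σ, hσ⟩ : ∃ σ : M ≃ₐ[k] M, ∀ x, ι₁ (σ x) = ι₂ x :=
    ⟨ψ.restrictNormal' M, fun x => AlgHom.restrictNormal_commutes ψ M x⟩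
  refine ⟨σ, Fib.ext ?_⟩
  show z₁.hom ≫ Spec.map (CommRingCat.ofHom (σ : M →ₐ[k] M).toRingHom) = z₂.hom
  rw [← Spec.map_preimage z₁.hom, ← Spec.map_comp, ← Spec.map_preimage z₂.hom]
  exact congrArg Spec.map (CommRingCat.hom_ext (RingHom.ext hσ))

theorem eq_zero_of_galois_kill [IsGalois k M] (x : EtCoh.H (Spec (CommRingCat.of k)) (EtCoh.Gm (Spec (CommRingCat.of k))) 1)
    (hk : (Ext.mk₀ (toConst (fieldEt k M))).comp x (zero_add 1) = 0) : x = 0 := by
  let X := Spec (CommRingCat.of k)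
  let W := fieldEt k M
  let ip := (EnoughInjectives.presentation (EtCoh.Gm X)).some
  let S := ShortComplex.mk ip.f (cokernel.π ip.f) (cokernel.condition _)
  have hS : S.ShortExact := { exact := ShortComplex.exact_of_g_is_cokernel _ (cokernelIsCokernel _) }
  haveI : Injective S.X₂ := ip.injective
  haveI : Mono S.f := hS.mono_f
  obtain ⟨c, rfl⟩ := Ext.covariant_sequence_exact₁ _ hS (n₁ := 1) x (Ext.eq_zero_of_injective _) (n₀ := 0) rfl
  obtain ⟨c, rfl⟩ := (Ext.mk₀_bijective _ _).2 c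
  rw [← Ext.comp_assoc_of_second_deg_zero, Ext.mk₀_comp_mk₀] at hk
  obtain ⟨e, he⟩ := Ext.covariant_sequence_exact₃ _ hS _ (n₁ := 1) (zero_add 1) hk
  obtain ⟨e, rfl⟩ := (Ext.mk₀_bijective _ S.X₂).2 e
  rw [Ext.mk₀_comp_mk₀] at he
  have he' : e ≫ S.g = toConst W ≫ c := (Ext.mk₀_bijective _ _).1 he
  have hd : ∀ σ : M ≃ₐ[k] M, ∃ u : free W ⟶ EtCoh.Gm X, u ≫ S.f = freeMap (autMap k M σ) ≫ e - e := fun σ =>
    ⟨hS.exact.lift _ (by rw [Preadditive.sub_comp, Category.assoc, he', ← Category.assoc, freeMap_toConst, sub_self]),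
      hS.exact.lift_f _ _⟩
  choose u hu using hd
  have hcoc : ∀ σ τ, u (σ * τ) = freeMap (autMap k M σ) ≫ u τ + u σ := fun σ τ => by
    rw [← cancel_mono S.f, hu, Preadditive.add_comp, Category.assoc, hu, hu, Preadditive.comp_sub,
      ← Category.assoc, freeMap_comp, autMap_mul]
    abel
  choose v hv using fun σ => (gmSec_bijective k M).2 ((u σ).hom.app (op W) (gen W))
  have hv' : groupCohomology.IsMulCocycle₁ v := fun σ τ => (gmSec_bijective k M).1 (by
    rw [gmSec_mul, ← map_gmSec, hv, hv, hv, hcoc, ← freeMap_app]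
    rfl)
  obtain ⟨β, hβ⟩ := groupCohomology.isMulCoboundary₁_of_isMulCocycle₁_of_aut_to_units v hv'
  let w := desc W (gmSec k M β)
  have hw : ∀ σ, u σ = freeMap (autMap k M σ) ≫ w - w := fun σ => free_hom_ext W (by
    rw [← hv]
    show _ = (freeMap (autMap k M σ) ≫ w).hom.app (op W) (gen W) - w.hom.app (op W) (gen W)
    rw [freeMap_app, desc_gen, map_gmSec, eq_sub_iff_add_eq, ← gmSec_mul, ← hβ σ, div_mul_cancel])
  let e₂ := e - w ≫ S.f
  have hinv : ∀ σ, freeMap (autMap k M σ) ≫ e₂ = e₂ := fun σ => by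
    have h := hu σ
    rw [hw, Preadditive.sub_comp, Category.assoc] at h
    rw [← sub_eq_zero]
    simp only [e₂, Preadditive.comp_sub]
    rw [sub_sub_sub_comm, ← h, sub_self]
  have he₂ : e₂ ≫ S.g = toConst W ≫ c := by
    rw [Preadditive.sub_comp, he', Category.assoc, S.zero, comp_zero, sub_zero]
  let b := e₂.hom.app (op W) (gen W)
  have hb : ∀ σ, S.X₂.obj.map (autMap k M σ).op b = b := fun σ => by
    show S.X₂.obj.map (autMap k M σ).op (e₂.hom.app (op W) (gen W)) = e₂.hom.app (op W) (gen W)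
    rw [← freeMap_app, hinv]
  let π : W ⟶ EtCoh.top X := (EtCore.topIsTerminal X).from W
  have hmem : Sieve.ofArrows (fun _ : PUnit.{1} => W) (fun _ => π) ∈ X.smallEtaleTopology (EtCoh.top X) := by
    rw [Scheme.ofArrows_mem_smallEtaleTopology_iff]
    refine Set.eq_univ_of_forall fun y => Set.mem_iUnion.2 ⟨PUnit.unit, ?_⟩
    haveI : Subsingleton ↥(EtCoh.top X).left := inferInstanceAs (Subsingleton (PrimeSpectrum k))
    exact ⟨(default : PrimeSpectrum M), Subsingleton.elim _ _⟩
  have hsh : ∀ G : EtCoh.Ab X, (Presieve.ofArrows (fun _ : PUnit.{1} => W) (fun _ => π)).IsSheafFor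
      (G.obj ⋙ forget AddCommGrpCat.{u + 1}) := fun G => by
    rw [Presieve.isSheafFor_iff_generate]
    exact ((isSheaf_iff_isSheaf_of_type _ _).1
      (GrothendieckTopology.HasSheafCompose.isSheaf G.obj G.property)) _ hmem
  obtain ⟨t, ht, -⟩ := (Presieve.isSheafFor_arrows_iff _ _).1 (hsh S.X₂) (fun _ => b) (fun _ _ Z p q _ => by
    refine eq_of_germ (A := AddCommGrpCat.{u + 1}) S.X₂ _ _ fun Ω _ _ ξ z => ?_
    obtain ⟨σ, hσ⟩ := exists_aut k M (z.map p) (z.map q)
    show germ ξ S.X₂ Z z (S.X₂.obj.map p.op b) = germ ξ S.X₂ Z z (S.X₂.obj.map q.op b)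
    rw [germ_res_apply, germ_res_apply, ← hσ, ← germ_res_apply ξ S.X₂ (autMap k M σ) (z.map p) b, hb σ])
  let a := ((EtCore.constAdj X).homEquiv (AddCommGrpCat.of (ULift.{u + 1} ℤ)) S.X₂).symm (intHom t)
  have ha : a ≫ S.g = c := by
    refine DescSecLib.et_ext_Z _ _ ?_
    rw [Functor.map_comp, ConcreteCategory.comp_apply, gsec_map_symm, intHom_one]
    refine ((Presieve.isSheafFor_arrows_iff _ _).1 (hsh S.X₃) (fun _ => S.g.hom.app (op W) b) ?_).unique
      (fun _ => ?_) (fun _ => ?_)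
    · intro _ _ Z p q e
      show S.X₃.obj.map p.op (S.g.hom.app (op W) (e₂.hom.app (op W) (gen W))) =
        S.X₃.obj.map q.op (S.g.hom.app (op W) (e₂.hom.app (op W) (gen W)))
      change S.X₃.obj.map p.op ((e₂ ≫ S.g).hom.app (op W) (gen W)) = S.X₃.obj.map q.op ((e₂ ≫ S.g).hom.app (op W) (gen W))
      rw [← freeMap_app, ← freeMap_app, he₂, ← Category.assoc, ← Category.assoc, freeMap_toConst, freeMap_toConst]
    · show S.X₃.obj.map π.op (S.g.hom.app (op (EtCoh.top X)) t) = _
      rw [← NatTrans.naturality_apply]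
      exact congrArg (S.g.hom.app (op W)) (ht PUnit.unit)
    · show S.X₃.obj.map π.op (c.hom.app (op (EtCoh.top X)) (DescSecLib.etOneSec X ⟨1⟩)) = S.g.hom.app (op W) b
      show _ = (e₂ ≫ S.g).hom.app (op W) (gen W)
      rw [he₂, ← NatTrans.naturality_apply]
      refine congrArg (c.hom.app (op W)) ?_
      show _ = (toConst W).hom.app (op W) (gen W)
      rw [toConst, desc_gen]
  rw [← ha, ← Ext.mk₀_comp_mk₀, Ext.comp_assoc_of_second_deg_zero, hS.comp_extClass, Ext.comp_zero]

theorem subsingleton_H1_Gm (k : Type u) [Field k] :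
    Subsingleton (EtCoh.H (Spec (CommRingCat.of k)) (EtCoh.Gm (Spec (CommRingCat.of k))) 1) := by
  refine subsingleton_of_forall_eq 0 fun x => ?_
  obtain ⟨L, _, _, _, _, h⟩ := exists_field_kill k (n := 0) x
  let N := IntermediateField.normalClosure k L (SeparableClosure k)
  haveI : Algebra.IsSeparable k N := Algebra.isSeparable_tower_bot_of_isSeparable k N (SeparableClosure k)
  haveI : IsGalois k N := ⟨⟩
  let f : L →ₐ[k] SeparableClosure k := IsSepClosed.lift
  let τ : L →ₐ[k] N := f.codRestrict N.toSubalgebra fun y => AlgHom.fieldRange_le_normalClosure f ⟨y, rfl⟩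
  let φ : fieldEt k N ⟶ fieldEt k L :=
    MorphismProperty.Over.homMk (Spec.map (CommRingCat.ofHom τ.toRingHom)) (by
      show Spec.map _ ≫ Spec.map (CommRingCat.ofHom (algebraMap k L)) = Spec.map (CommRingCat.ofHom (algebraMap k N))
      rw [← Spec.map_comp, ← CommRingCat.ofHom_comp]
      exact congrArg (fun c => Spec.map (CommRingCat.ofHom c)) τ.comp_algebraMap)
  refine eq_zero_of_galois_kill k N x ?_
  rw [← freeMap_toConst φ, ← Ext.mk₀_comp_mk₀, Ext.comp_assoc_of_second_deg_zero, h, Ext.comp_zero]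

end

end EtKummerLib
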