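import Groth.Agent.EtKummerLib.Hilbert90
import Groth.Agent.EtTransferLib.PointTorsion
import Mathlib.RingTheory.Spectrum.Prime.RingHom

/-!
# `H^1(W, G_m) = 0` for quasi-compact etale schemes over a field
-/

set_option autoImplicit false
set_option linter.unusedSectionVars false
set_option linter.style.haveILetI false
set_option backward.isDefEq.respectTransparency false
set_option backward.isDefEq.respectTransparency.types false
set_option synthInstance.maxHeartbeats 400000
set_option maxHeartbeats 1000000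

universe u

open CategoryTheory CategoryTheory.Limits CategoryTheory.Abelian AlgebraicGeometry Opposite
open Groth.Agent.EtShLib EtSliceLib EtTransferLib

namespace EtKummerLib

noncomputable section

theorem subsingleton_ext_fieldEt_Gm (k L : Type u) [Field k] [Field L] [Algebra k L] [FiniteDimensional k L]
    [Algebra.IsSeparable k L] :
    Subsingleton (Ext.{u + 1} (free (fieldEt k L)) (EtCoh.Gm (Spec (CommRingCat.of k))) 1) := by
  let W := fieldEt k L
  haveI : AlgebraicGeometry.Etale W.hom := W.prop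
  haveI := jCont W.hom
  haveI : IsIso ((restrTheta W.hom).app (EtCoh.Gm (Spec (CommRingCat.of k)))) :=
    NatIso.isIso_app_of_isIso (restrTheta W.hom) _
  let θ : (EtCoh.pull W.hom).obj (EtCoh.Gm (Spec (CommRingCat.of k))) ≅ EtCoh.Gm (Spec (CommRingCat.of L)) :=
    asIso ((restrTheta W.hom).app (EtCoh.Gm (Spec (CommRingCat.of k))))
  haveI := subsingleton_H1_Gm L
  have hH : Subsingleton (EtCoh.H (Spec (CommRingCat.of L)) ((EtCoh.pull W.hom).obj (EtCoh.Gm (Spec (CommRingCat.of k)))) 1) := by
    refine subsingleton_of_forall_eq 0 fun x => ?_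
    have h : x.comp (Ext.mk₀ θ.hom) (add_zero 1) = 0 :=
      Subsingleton.elim (α := EtCoh.H (Spec (CommRingCat.of L)) (EtCoh.Gm (Spec (CommRingCat.of L))) 1) _ 0
    have h' := congrArg (fun z => Ext.comp z (Ext.mk₀ θ.inv) (add_zero 1)) h
    rwa [Ext.comp_assoc_of_third_deg_zero, Ext.mk₀_comp_mk₀, Iso.hom_inv_id, Ext.comp_mk₀_id, Ext.zero_comp] at h'
  exact ⟨fun a b => (psi_bijective W 1 _).1 (@Subsingleton.elim _ hH _ _)⟩

theorem exists_lift_section {k : Type u} [Field k] (V : (Spec (CommRingCat.of k)).Etale) [CompactSpace ↥V.left]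
    {S : ShortComplex (EtCoh.Ab (Spec (CommRingCat.of k)))} (hS : S.ShortExact)
    (e : S.X₁ = EtCoh.Gm (Spec (CommRingCat.of k))) (c : ToType (S.X₃.obj.obj (op V))) :
    ∃ b : ToType (S.X₂.obj.obj (op V)), S.g.hom.app (op V) b = c := by
  let X := Spec (CommRingCat.of k)
  let φ : V.left ⟶ X := V.hom
  haveI : AlgebraicGeometry.Etale φ := V.prop
  haveI : IsFinite φ := isFinite_of_etale_compact φ
  haveI : IsAffine V.left := isAffine_of_isAffineHom φ
  let A := Γ(V.left, ⊤)
  let ψ : CommRingCat.of k ⟶ A := Spec.preimage (V.left.isoSpec.inv ≫ φ)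
  have hψ : Spec.map ψ = V.left.isoSpec.inv ≫ φ := Spec.map_preimage _
  letI : Algebra k A := ψ.hom.toAlgebra
  haveI : Algebra.Etale k A := by
    haveI : AlgebraicGeometry.Etale (Spec.map ψ) := by rw [hψ]; infer_instance
    exact RingHom.etale_algebraMap.1 ((HasRingHomProperty.Spec_iff (P := @AlgebraicGeometry.Etale)).1 ‹_›)
  obtain ⟨I, _, L, _, _, E, hsep⟩ := (Algebra.FormallyEtale.iff_exists_algEquiv_prod k A).1 inferInstance
  haveI : Module.Finite k A := Algebra.FormallyUnramified.finite_of_free k A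
  have hsurj : ∀ i, Function.Surjective ((Pi.evalAlgHom k L i).comp E.toAlgHom) := fun i =>
    (Function.surjective_eval i).comp E.surjective
  haveI : ∀ i, FiniteDimensional k (L i) := fun i => Module.Finite.of_surjective ((Pi.evalAlgHom k L i).comp E.toAlgHom).toLinearMap (hsurj i)
  haveI := hsep
  let q : ∀ i, A ⟶ CommRingCat.of (L i) := fun i => CommRingCat.ofHom ((Pi.evalAlgHom k L i).comp E.toAlgHom).toRingHom
  let π : ∀ i, fieldEt k (L i) ⟶ V := fun i =>
    MorphismProperty.Over.homMk (Spec.map (q i) ≫ V.left.isoSpec.inv) (by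
      show (_ ≫ _) ≫ φ = Spec.map (CommRingCat.ofHom (algebraMap k (L i)))
      rw [Category.assoc, ← hψ, ← Spec.map_comp]
      exact congrArg (fun f => Spec.map (CommRingCat.ofHom f)) ((Pi.evalAlgHom k L i).comp E.toAlgHom).comp_algebraMap)
  have hmem : Sieve.ofArrows (fun i => fieldEt k (L i)) π ∈ X.smallEtaleTopology V := by
    rw [Scheme.ofArrows_mem_smallEtaleTopology_iff]
    refine Set.eq_univ_of_forall fun y => ?_
    obtain ⟨⟨i, p⟩, hp⟩ := (PrimeSpectrum.sigmaToPi_bijective L).surjective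
      (PrimeSpectrum.comap (E.symm : (Π i, L i) →+* A) (V.left.isoSpec.hom y))
    refine Set.mem_iUnion.2 ⟨i, p, ?_⟩
    have h1 : PrimeSpectrum.comap (q i).hom p = V.left.isoSpec.hom y := by
      have hp' : PrimeSpectrum.comap (Pi.evalRingHom L i) p =
          PrimeSpectrum.comap (E.symm : (Π i, L i) →+* A) (V.left.isoSpec.hom y) := hp
      apply PrimeSpectrum.ext
      ext a
      have h2 := congrArg (fun P => E a ∈ P.asIdeal) hp'
      simp only [PrimeSpectrum.comap_asIdeal, Ideal.mem_comap] at h2 ⊢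
      show (q i).hom a ∈ p.asIdeal ↔ _
      refine Iff.trans (Iff.of_eq h2) ?_
      simp
    show V.left.isoSpec.inv (PrimeSpectrum.comap (q i).hom p) = y
    rw [h1]
    rw [← Scheme.Hom.comp_apply, Iso.hom_inv_id]
    rfl
  have hsh : ∀ G : EtCoh.Ab X, (Presieve.ofArrows (fun i => fieldEt k (L i)) π).IsSheafFor
      (G.obj ⋙ forget AddCommGrpCat.{u + 1}) := fun G => by
    rw [Presieve.isSheafFor_iff_generate]
    exact ((isSheaf_iff_isSheaf_of_type _ _).1
      (GrothendieckTopology.HasSheafCompose.isSheaf G.obj G.property)) _ hmem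
  have hl : ∀ i, ∃ b : ToType (S.X₂.obj.obj (op (fieldEt k (L i)))),
      S.g.hom.app _ b = S.X₃.obj.map (π i).op c := fun i => by
    haveI : Subsingleton (Ext.{u + 1} (free (fieldEt k (L i))) S.X₁ 1) := by rw [e]; exact subsingleton_ext_fieldEt_Gm k (L i)
    obtain ⟨w, hw⟩ := Ext.covariant_sequence_exact₃ _ hS
      (Ext.mk₀ (desc _ (S.X₃.obj.map (π i).op c))) (n₁ := 1) (zero_add 1) (Subsingleton.elim _ _)
    obtain ⟨w, rfl⟩ := (Ext.mk₀_bijective _ S.X₂).2 w
    rw [Ext.mk₀_comp_mk₀] at hw
    refine ⟨w.hom.app _ (gen _), ?_⟩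
    exact (congrArg (fun t : free (fieldEt k (L i)) ⟶ S.X₃ => t.hom.app _ (gen _)) ((Ext.mk₀_bijective _ _).1 hw)).trans (desc_gen _ _)
  choose b hb using hl
  obtain ⟨t, ht, -⟩ := (Presieve.isSheafFor_arrows_iff _ _).1 (hsh S.X₂) b (fun i j Z p p' w => by
    refine eq_of_germ (A := AddCommGrpCat.{u + 1}) S.X₂ _ _ fun Ω _ _ ξ z => ?_
    show germ ξ S.X₂ Z z (S.X₂.obj.map p.op (b i)) = germ ξ S.X₂ Z z (S.X₂.obj.map p'.op (b j))
    have hw' := congrArg (fun f : Z ⟶ V => z.hom ≫ f.left) w
    let a := Spec.preimage (z.hom ≫ p.left)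
    let a' := Spec.preimage (z.hom ≫ p'.left)
    have haa : q i ≫ a = q j ≫ a' := by
      apply Spec.map_injective
      rw [Spec.map_comp, Spec.map_comp, Spec.map_preimage, Spec.map_preimage, ← cancel_mono V.left.isoSpec.inv,
        Category.assoc, Category.assoc, Category.assoc, Category.assoc]
      exact hw'
    have hij : i = j := by
      by_contra hne
      classical
      have h1 := congrArg (fun f : A ⟶ CommRingCat.of Ω => f.hom (E.symm (Pi.single i 1))) haa
      simp [q, hne, Ne.symm hne] at h1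
    subst hij
    have hzz : z.map p = z.map p' := by
      refine Fib.ext ?_
      show z.hom ≫ p.left = z.hom ≫ p'.left
      have : a = a' := CommRingCat.hom_ext (RingHom.ext fun l => by
        obtain ⟨x, rfl⟩ := hsurj i l
        exact congrArg (fun f : A ⟶ CommRingCat.of Ω => f.hom x) haa)
      rw [← Spec.map_preimage (z.hom ≫ p.left), ← Spec.map_preimage (z.hom ≫ p'.left)]
      exact congrArg Spec.map this
    rw [germ_res_apply, germ_res_apply, hzz])
  refine ⟨t, ((hsh S.X₃).isSeparatedFor).ext fun {Y} f hf => ?_⟩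
  obtain ⟨i⟩ := hf
  show S.X₃.obj.map (π i).op _ = S.X₃.obj.map (π i).op c
  rw [← NatTrans.naturality_apply, ← hb i]
  exact congrArg (S.g.hom.app _) (ht i)

end

end EtKummerLib
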